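import Cfsg.Agent.H91.CentSE.Radical

/-!
The elements centralized by a normal subsystem are closed under fusion.
-/

set_option autoImplicit false
set_option linter.style.haveILetI false

namespace Cfsg.Agent.H91.CentSE

open Cfsg Cfsg.FusionSystem Cfsg.Agent.FusionSys Cfsg.Agent.H91.CentFocal
open Cfsg.FusionSystem (centralizerIn normalizerIn)

variable {Ω : Type*} [Group Ω] {S T : Subgroup Ω} {F : FusionSystem S} {E : FusionSystem T} {p : ℕ}

/-- `x` centralizes `T` and every map of `E` extends to a map fixing `x`. -/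
def Good (F : FusionSystem S) (E : FusionSystem T) (x : Ω) : Prop :=
  x ∈ centralizerIn S T ∧ ∀ P f, IsMap E P f →
    ∃ g, IsMap F (P ⊔ Subgroup.zpowers x) g ∧ (∀ y ∈ P, g y = f y) ∧ g x = x

theorem fix_zpowers {X : Subgroup Ω} {g : Ω → Ω} (hg : IsMap F X g) {x : Ω} (hx : x ∈ X)
    (hgx : g x = x) {y : Ω} (hy : y ∈ Subgroup.zpowers x) : g y = y := by
  let K : Subgroup Ω :=
    { carrier := {y | y ∈ X ∧ g y = y}
      one_mem' := ⟨X.one_mem, hg.map_one⟩
      mul_mem' := fun {a b} ha hb => ⟨X.mul_mem ha.1 hb.1, by rw [hg.map_mul ha.1 hb.1, ha.2, hb.2]⟩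
      inv_mem' := fun {a} ha => ⟨X.inv_mem ha.1, by rw [hg.map_inv ha.1, ha.2]⟩ }
  exact ((Subgroup.zpowers_le.2 (show x ∈ K from ⟨hx, hgx⟩)) hy).2

theorem mem_zpowers_image {X : Subgroup Ω} {g : Ω → Ω} (hg : IsMap F X g) {x : Ω} (hx : x ∈ X)
    {y : Ω} (hy : y ∈ Subgroup.zpowers x) : g y ∈ Subgroup.zpowers (g x) := by
  let K : Subgroup Ω :=
    { carrier := {y | y ∈ X ∧ g y ∈ Subgroup.zpowers (g x)}
      one_mem' := ⟨X.one_mem, by rw [hg.map_one]; exact Subgroup.one_mem _⟩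
      mul_mem' := fun {a b} ha hb =>
        ⟨X.mul_mem ha.1 hb.1, by rw [hg.map_mul ha.1 hb.1]; exact mul_mem ha.2 hb.2⟩
      inv_mem' := fun {a} ha => ⟨X.inv_mem ha.1, by rw [hg.map_inv ha.1]; exact inv_mem ha.2⟩ }
  exact ((Subgroup.zpowers_le.2 (show x ∈ K from ⟨hx, Subgroup.mem_zpowers _⟩)) hy).2

variable [Finite S]

/-- A map defined on `T` and `x` carries an element centralized by `E` to one. -/
theorem Good.transport (hE : E.IsInvariantIn F) {x : Ω} (hx : Good F E x) {h : Ω → Ω}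
    (hh : IsMap F (T ⊔ Subgroup.zpowers x) h) : Good F E (h x) := by
  have hT := hE.2.1
  have hTS := hT.1
  haveI : Finite T := finite_of_le hTS
  have hxm : x ∈ T ⊔ Subgroup.zpowers x := Subgroup.mem_sup_right (Subgroup.mem_zpowers x)
  have hhT : ∀ t ∈ T, h t ∈ T := (stronglyClosed_iff.1 hT).2 T h le_rfl (hh.mono le_sup_left)
  obtain ⟨a, ha, hae⟩ := (isIso_of_mapsTo (hh.mono le_sup_left) hhT).exists_aut
  have haT : IsIso F T T (autMap a) := isIso_autMap hTS ha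
  refine ⟨FusionSys.mem_centralizerIn.2 ⟨hh.mem_S hxm, fun t ht => ?_⟩, fun P f hf => ?_⟩
  · obtain ⟨t₀, ht₀, rfl⟩ := haT.exists_preimage ht
    rw [hae t₀ ht₀, ← hh.map_mul (Subgroup.mem_sup_left ht₀) hxm,
      ← hh.map_mul hxm (Subgroup.mem_sup_left ht₀), (FusionSys.mem_centralizerIn.1 hx.1).2 t₀ ht₀]
  · obtain ⟨χ, hχ, hχe⟩ := invariant_map hE (Subgroup.inv_mem _ ha) hf
    set P' := imgSub (autMap a⁻¹) P with hP'
    have hP'T : P' ≤ T := hχ.le
    have haP : IsMap F P (autMap a⁻¹) :=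
      ((mem_autGroup_iff hTS).1 (Subgroup.inv_mem _ ha)).mono hf.le
    obtain ⟨g', hg', hg'e, hg'x⟩ := hx.2 P' χ hχ
    obtain ⟨k, hk, hkh⟩ := hh.exists_inv
    have hhP : ∀ y ∈ P, h (autMap a⁻¹ y) = y := fun y hy => by
      rw [← hae _ (autMap_mem _ (hf.le hy)), autMap_inv_apply _ (hf.le hy)]
    have hg'im : ∀ y ∈ P' ⊔ Subgroup.zpowers x, g' y ∈ T ⊔ Subgroup.zpowers x := fun y hy =>
      hg'.mapsTo_sup (fun z hz => Subgroup.mem_sup_left ((hg'e z hz).symm ▸ hχ.mem_S hz))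
        (fun z hz => Subgroup.mem_sup_right
          ((fix_zpowers hg' (Subgroup.mem_sup_right (Subgroup.mem_zpowers x)) hg'x hz).symm ▸ hz)) hy
    have hsup : P ⊔ Subgroup.zpowers (h x) ≤ imgSub h (T ⊔ Subgroup.zpowers x) := by
      refine sup_le (fun y hy => hh.mem_imgSub.2 ⟨_, Subgroup.mem_sup_left
        (autMap_mem _ (hf.le hy)), hhP y hy⟩) (Subgroup.zpowers_le.2 (hh.mem_imgSub.2 ⟨x, hxm, rfl⟩))
    have hkm : IsMap F (P ⊔ Subgroup.zpowers (h x)) k := hk.mono hsup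
    have hxP : h x ∈ P ⊔ Subgroup.zpowers (h x) := Subgroup.mem_sup_right (Subgroup.mem_zpowers _)
    have hkP : ∀ y ∈ P, k y = autMap a⁻¹ y := fun y hy => by
      conv_lhs => rw [← hhP y hy]
      exact hkh _ (Subgroup.mem_sup_left (autMap_mem _ (hf.le hy)))
    have hkim : ∀ y ∈ P ⊔ Subgroup.zpowers (h x), k y ∈ P' ⊔ Subgroup.zpowers x := fun y hy =>
      hkm.mapsTo_sup (fun z hz => Subgroup.mem_sup_left
          (haP.mem_imgSub.2 ⟨z, hz, (hkP z hz).symm⟩))
        (fun z hz => Subgroup.mem_sup_right (hkh x hxm ▸ mem_zpowers_image hkm hxP hz)) hy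
    refine ⟨h ∘ (g' ∘ k), (hkm.comp hg' hkim).comp hh fun y hy => hg'im _ (hkim y hy),
      fun y hy => ?_, ?_⟩
    · have hm : autMap a⁻¹ y ∈ P' := haP.mem_imgSub.2 ⟨y, hy, rfl⟩
      have hfy : f y ∈ T := hf.mem_S hy
      rw [Function.comp_apply, Function.comp_apply, hkP y hy, hg'e _ hm, hχe y hy,
        ← hae _ (autMap_mem _ hfy), autMap_inv_apply _ hfy]
    · rw [Function.comp_apply, Function.comp_apply, hkh x hxm, hg'x]

theorem isFullyCentralized_closed (hT : F.StronglyClosed T) : F.IsFullyCentralized T := by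
  haveI : Finite T := finite_of_le hT.1
  refine ⟨hT.1, fun Q hQ => ?_⟩
  obtain ⟨f, hf⟩ := isConj_iff.1 hQ
  have hle : Q ≤ T := target_le_of_closed hT le_rfl hf
  rw [Subgroup.eq_of_le_of_card_ge hle hf.card_eq.le]

theorem zpowers_isIso {x : Ω} {g : Ω → Ω} (hg : IsMap F (Subgroup.zpowers x) g) :
    IsIso F (Subgroup.zpowers x) (Subgroup.zpowers (g x)) g := by
  refine ⟨hg, Set.ext fun y => ⟨?_, fun hy => ?_⟩⟩
  · rintro ⟨z, hz, rfl⟩
    exact mem_zpowers_image hg (Subgroup.mem_zpowers x) hz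
  · obtain ⟨n, rfl⟩ := hy
    obtain ⟨φ, hφ, hφe⟩ := hg
    exact ⟨x ^ n, Subgroup.zpow_mem _ (Subgroup.mem_zpowers x) n, by
      rw [← hφe ⟨x ^ n, Subgroup.zpow_mem _ (Subgroup.mem_zpowers x) n⟩, ← hφe ⟨x, Subgroup.mem_zpowers x⟩]
      exact map_zpow φ ⟨x, Subgroup.mem_zpowers x⟩ n⟩

variable [Fact p.Prime]

/-- A conjugate with fully centralized cyclic group of an element centralized by `E` is one, and is the
target of a map defined on the centralizer of any conjugate. -/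
theorem exists_rep (hS : IsPGroup p S) (hF : F.IsSaturated p) (hE : E.IsInvariantIn F) {x : Ω}
    (hx : Good F E x) {f : Ω → Ω} (hf : IsMap F (Subgroup.zpowers x) f) :
    ∃ k, IsMap F (centralizerIn S (Subgroup.zpowers (f x)) ⊔ Subgroup.zpowers (f x)) k ∧
      Good F E (k (f x)) := by
  set y := f x
  have hfi := zpowers_isIso hf
  obtain ⟨Z, hZ, hZn⟩ := exists_isFullyNormalized F hfi.target_le
  obtain ⟨g, hg, hgi, -⟩ := exists_map_to_fullyNormalized hS hF hZn hZ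
  refine ⟨g, hg.mono (sup_le centralizerIn_le_normalizerIn (le_normalizerIn_self hfi.target_le)), ?_⟩
  have hcomp := hfi.comp hgi
  have hzc : ∀ t ∈ T, InExt S (Subgroup.zpowers x) (g ∘ f) t := fun t ht =>
    hcomp.isMap.inExt_of_centralizes (FusionSys.mem_centralizerIn.2 ⟨hE.2.1.1 ht, fun z hz => by
      obtain ⟨n, rfl⟩ := hz
      exact (Commute.zpow_left
        (show Commute x t from ((FusionSys.mem_centralizerIn.1 hx.1).2 t ht).symm) n).eq⟩)
  obtain ⟨h, hh, hhe⟩ := receptive_extend (receptive_of_isFullyNormalized hS hF hZn) hcomp hzc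
  have := hx.transport hE hh
  rwa [hhe x (Subgroup.mem_zpowers x)] at this

/-- `C_T(R') ≤ R'` for all conjugates `R'` of `R`. -/
def Ctr (F : FusionSystem S) (T R : Subgroup Ω) : Prop :=
  ∀ R', F.IsConj R R' → centralizerIn T R' ≤ R'

theorem Ctr.of_isConj {R R' : Subgroup Ω} (h : Ctr F T R) (hc : F.IsConj R R') : Ctr F T R' :=
  fun _ hR'' => h _ (isConj_trans hc hR'')

theorem Ctr.mono {R R₂ : Subgroup Ω} (h : Ctr F T R) (hle : R ≤ R₂) : Ctr F T R₂ := by
  intro Q hQ c hc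
  obtain ⟨f, hf⟩ := isConj_iff.1 hQ
  have hfR := (hf.isMap.mono hle).isIso
  have h1 : imgSub f R ≤ Q := fun z hz => by
    obtain ⟨r, hr, rfl⟩ := hfR.exists_preimage hz
    exact hf.mem (hle hr)
  exact h1 (h _ hfR.isConj (FusionSys.mem_centralizerIn.2
    ⟨hc.1, fun z hz => (FusionSys.mem_centralizerIn.1 hc).2 z (h1 hz)⟩))

/-- Elements centralizing a subgroup `R` of `T` with `C_T(R) ≤ R` and conjugate to one centralized by `E`
are centralized by `E`. -/
theorem good_of_centralizes (hS : IsPGroup p S) (hF : F.IsSaturated p) (hE : E.IsInvariantIn F)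
    {x : Ω} (hx : Good F E x) {f : Ω → Ω} (hf : IsMap F (Subgroup.zpowers x) f) (R : Subgroup Ω)
    (hRT : R ≤ T) (hR : Ctr F T R) (hRy : R ≤ centralizerIn S (Subgroup.zpowers (f x))) :
    Good F E (f x) := by
  have hT := hE.2.1
  have hTS := hT.1
  haveI : Finite T := finite_of_le hTS
  induction hn : Nat.card T - Nat.card R using Nat.strong_induction_on generalizing R with
  | _ n ih =>
  set y := f x with hy
  obtain ⟨k, hk, hz⟩ := exists_rep hS hF hE hx hf
  set z := k y with hz'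
  have hym : y ∈ centralizerIn S (Subgroup.zpowers y) ⊔ Subgroup.zpowers y :=
    Subgroup.mem_sup_right (Subgroup.mem_zpowers y)
  rcases hRT.eq_or_lt with hRe | hRlt
  · -- `R = T`
    subst hRe
    have hk' : IsMap F (R ⊔ Subgroup.zpowers y) k :=
      hk.mono (sup_le (hRy.trans le_sup_left) le_sup_right)
    have hkT : ∀ t ∈ R, k t ∈ R := (stronglyClosed_iff.1 hT).2 R k le_rfl (hk'.mono le_sup_left)
    have hki := isIso_of_mapsTo (hk'.mono le_sup_left) hkT
    obtain ⟨v, hv, hvk⟩ := hk'.exists_inv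
    have hyy : y ∈ R ⊔ Subgroup.zpowers y := Subgroup.mem_sup_right (Subgroup.mem_zpowers y)
    have hle : R ⊔ Subgroup.zpowers z ≤ imgSub k (R ⊔ Subgroup.zpowers y) := sup_le (fun t ht => by
        obtain ⟨u, hu, rfl⟩ := hki.exists_preimage ht
        exact hk'.mem_imgSub.2 ⟨u, Subgroup.mem_sup_left hu, rfl⟩)
      (Subgroup.zpowers_le.2 (hk'.mem_imgSub.2 ⟨y, hyy, rfl⟩))
    have := hz.transport hE (hv.mono hle)
    rwa [hz', hvk y hyy] at this
  have hRS : R ≤ S := hRT.trans hTS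
  have hyC : y ∈ centralizerIn S R := FusionSys.mem_centralizerIn.2
    ⟨hf.mem_S (Subgroup.mem_zpowers x), fun r hr =>
      ((FusionSys.mem_centralizerIn.1 (hRy hr)).2 y (Subgroup.mem_zpowers y)).symm⟩
  obtain ⟨R', hRR', hR'n⟩ := exists_isFullyNormalized F hRS
  obtain ⟨h, hh, hhi, -⟩ := exists_map_to_fullyNormalized hS hF hR'n hRR'
  have hR'c := isFullyCentralized_of_isFullyNormalized hS hF hR'n
  have hRN : R ≤ normalizerIn S R := le_normalizerIn_self hRS
  have hyN : y ∈ normalizerIn S R := centralizerIn_le_normalizerIn hyC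
  have hy'C : h y ∈ centralizerIn S R' :=
    hhi.mem_centralizerIn_of_extends hh hRN (fun _ _ => rfl) hyN hyC
  have hR'T : R' ≤ T := target_le_of_closed hT hRT hhi
  -- the map from `R₀ ⊔ ⟨z⟩`
  have hkR : IsMap F (R ⊔ Subgroup.zpowers y) k :=
    hk.mono (sup_le (hRy.trans le_sup_left) le_sup_right)
  set R₀ := imgSub k R with hR₀
  have hkRi : IsIso F R R₀ k := (hkR.mono le_sup_left).isIso
  have hR₀T : R₀ ≤ T := target_le_of_closed hT hRT hkRi
  obtain ⟨v, hv, hvk⟩ := hkR.exists_inv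
  have hle0 : R₀ ⊔ Subgroup.zpowers z ≤ imgSub k (R ⊔ Subgroup.zpowers y) := sup_le (fun t ht => by
      obtain ⟨u, hu, rfl⟩ := hkRi.exists_preimage ht
      exact hkR.mem_imgSub.2 ⟨u, Subgroup.mem_sup_left hu, rfl⟩)
    (Subgroup.zpowers_le.2 (hkR.mem_imgSub.2
      ⟨y, Subgroup.mem_sup_right (Subgroup.mem_zpowers y), rfl⟩))
  have hzm : z ∈ R₀ ⊔ Subgroup.zpowers z := Subgroup.mem_sup_right (Subgroup.mem_zpowers z)
  have hvz : v z = y := hvk y (Subgroup.mem_sup_right (Subgroup.mem_zpowers y))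
  have hvR : ∀ r ∈ R₀, v r ∈ R := fun r hr => by
    obtain ⟨u, hu, rfl⟩ := hkRi.exists_preimage hr
    exact (hvk u (Subgroup.mem_sup_left hu)).symm ▸ hu
  have hvN : ∀ w ∈ R₀ ⊔ Subgroup.zpowers z, v w ∈ normalizerIn S R := fun w hw =>
    (hv.mono hle0).mapsTo_sup (fun r hr => hRN (hvR r hr)) (fun w' hw' => by
      have := mem_zpowers_image (hv.mono hle0) hzm hw'
      rw [hvz] at this
      exact Subgroup.zpowers_le.2 hyN this) hw
  have hG : IsMap F (R₀ ⊔ Subgroup.zpowers z) (h ∘ v) := (hv.mono hle0).comp hh hvN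
  have hGim : ∀ r ∈ R₀, h (v r) ∈ R' := fun r hr => hhi.mem (hvR r hr)
  obtain ⟨a, ha, φ, hφ, he⟩ := frattini_map hE hR₀T (hG.mono le_sup_left)
  obtain ⟨φ', hφ', hφ'e, hφ'z⟩ := hz.2 R₀ φ hφ
  obtain ⟨ā, hā, hāe⟩ := receptive_extend
    (receptive_of_isFullyCentralized hS hF (isFullyCentralized_closed hT)) (isIso_autMap hTS ha)
    (N := Subgroup.zpowers z) fun u hu =>
      (isIso_autMap hTS ha).isMap.inExt_of_centralizes (Subgroup.zpowers_le.2 hz.1 hu)
  have hā' : IsMap F (T ⊔ Subgroup.zpowers z) ā := sup_comm T (Subgroup.zpowers z) ▸ hā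
  have hgood := hz.transport hE hā'
  have hφim : ∀ w ∈ R₀ ⊔ Subgroup.zpowers z, φ' w ∈ T ⊔ Subgroup.zpowers z := fun w hw =>
    hφ'.mapsTo_sup (fun r hr => Subgroup.mem_sup_left ((hφ'e r hr).symm ▸ hφ.mem_S hr))
      (fun r hr => Subgroup.mem_sup_right ((fix_zpowers hφ' hzm hφ'z hr).symm ▸ hr)) hw
  have hψ : IsMap F (R₀ ⊔ Subgroup.zpowers z) (ā ∘ φ') := hφ'.comp hā' hφim
  have hψR : ∀ r ∈ R₀, (ā ∘ φ') r = h (v r) := fun r hr => by
    rw [Function.comp_apply, hφ'e r hr, hāe _ (hφ.mem_S hr), ← he r hr]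
    rfl
  set z₁ := ā z with hz₁
  have hψz : (ā ∘ φ') z = z₁ := by rw [Function.comp_apply, hφ'z]
  obtain ⟨u, hu, huψ⟩ := hψ.exists_inv
  have hR'eq : ∀ r ∈ R', ∃ r₀ ∈ R₀, h (v r₀) = r := fun r hr => by
    obtain ⟨r₁, hr₁, rfl⟩ := hhi.exists_preimage hr
    exact ⟨k r₁, hkRi.mem hr₁, by rw [hvk r₁ (Subgroup.mem_sup_left hr₁)]⟩
  have hle1 : Subgroup.zpowers z₁ ⊔ R' ≤ imgSub (ā ∘ φ') (R₀ ⊔ Subgroup.zpowers z) := sup_le
    (Subgroup.zpowers_le.2 (hψ.mem_imgSub.2 ⟨z, hzm, hψz⟩))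
    (fun r hr => by
      obtain ⟨r₀, hr₀, rfl⟩ := hR'eq r hr
      exact hψ.mem_imgSub.2 ⟨r₀, Subgroup.mem_sup_left hr₀, hψR r₀ hr₀⟩)
  have huim : ∀ w ∈ Subgroup.zpowers z₁ ⊔ R', u w ∈ R₀ ⊔ Subgroup.zpowers z := fun w hw => by
    obtain ⟨w₀, hw₀, rfl⟩ := hψ.mem_imgSub.1 (hle1 hw)
    exact (huψ w₀ hw₀).symm ▸ hw₀
  have hμ : IsMap F (Subgroup.zpowers z₁ ⊔ R') ((h ∘ v) ∘ u) := (hu.mono hle1).comp hG huim
  have hμR : ∀ r ∈ R', ((h ∘ v) ∘ u) r = r := fun r hr => by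
    obtain ⟨r₀, hr₀, rfl⟩ := hR'eq r hr
    rw [Function.comp_apply, Function.comp_apply]
    conv_lhs => rw [← hψR r₀ hr₀, huψ r₀ (Subgroup.mem_sup_left hr₀)]
  have hμz : ((h ∘ v) ∘ u) z₁ = h y := by
    rw [Function.comp_apply, Function.comp_apply, ← hψz, huψ z hzm, hvz]
  have hz₁C : z₁ ∈ centralizerIn S R' := FusionSys.mem_centralizerIn.2
    ⟨hgood.1.1, fun r hr => (FusionSys.mem_centralizerIn.1 hgood.1).2 r (hR'T hr)⟩
  have hμD : IsMap (centSys F hR'c.1) (Subgroup.zpowers z₁) ((h ∘ v) ∘ u) :=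
    (isMap_centSys_iff hR'c.1).2 ⟨Subgroup.zpowers_le.2 hz₁C, fun w hw => by
      have := mem_zpowers_image hμ (Subgroup.mem_sup_left (Subgroup.mem_zpowers z₁)) hw
      rw [hμz] at this
      exact Subgroup.zpowers_le.2 hy'C this, _, hμ, fun _ _ => rfl, hμR⟩
  -- the larger subgroup
  have hTp : IsPGroup p T := hS.to_le hTS
  set R₂ := normalizerIn T R with hR₂
  have hR₂y : R₂ ≤ centralizerIn S (Subgroup.zpowers y) := by
    intro t ht
    have htN : t ∈ normalizerIn S R := ⟨hTS ht.1, ht.2⟩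
    have ht' : h t ∈ normalizerIn T R' := ⟨(stronglyClosed_iff.1 hT).2 R₂ h inf_le_left
        (hh.mono fun w hw => ⟨hTS hw.1, hw.2⟩) t ht,
      (hhi.mem_normalizerIn_of_extends hh hRN (fun _ _ => rfl) htN ht.2).2⟩
    have hc := commutator_invariant hS hF hT hR'T hR'c (hR R' hhi.isConj) ht' hμD
      (Subgroup.mem_zpowers z₁)
    rw [hμz] at hc
    have h1 : h t * z₁ * (h t)⁻¹ * z₁⁻¹ = 1 := by
      rw [(FusionSys.mem_centralizerIn.1 hgood.1).2 (h t) ht'.1]
      group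
    rw [h1] at hc
    have hcomm : t * y = y * t := by
      refine hh.injOn (mul_mem htN hyN) (mul_mem hyN htN) ?_
      rw [hh.map_mul htN hyN, hh.map_mul hyN htN]
      calc h t * h y = h t * h y * (h t)⁻¹ * (h y)⁻¹ * (h y * h t) := by group
        _ = _ := by rw [hc, one_mul]
    refine FusionSys.mem_centralizerIn.2 ⟨htN.1, fun w hw => ?_⟩
    obtain ⟨m, rfl⟩ := hw
    exact (Commute.zpow_left (show Commute y t from hcomm.symm) m).eq
  have hlt : R < R₂ := lt_inf_normalizer_of_lt hTp hRlt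
  haveI : Finite R₂ := finite_of_le (S := T) inf_le_left
  refine ih (Nat.card T - Nat.card R₂) ?_ R₂ inf_le_left (hR.mono hlt.le) hR₂y rfl
  have h1 : Nat.card R < Nat.card R₂ := Cfsg.Agent.H89.card_lt_card_of_lt hlt
  have h2 : Nat.card R₂ ≤ Nat.card T := Subgroup.card_le_of_le inf_le_left
  omega

/-- For a centric radical subgroup `P`, every conjugate `R` of `P ∩ T` has `C_T(R) ≤ R`. -/
theorem ctr_inf (hS : IsPGroup p S) (hF : F.IsSaturated p) (hT : F.StronglyClosed T)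
    {P : Subgroup Ω} (hPc : F.IsCentric P) (hPr : F.IsRadical p P) : Ctr F T (P ⊓ T) := by
  have hPS : P ≤ S := hPc.1
  haveI : Finite P := finite_of_le hPS
  haveI : Finite T := finite_of_le hT.1
  set R₀ := P ⊓ T with hR₀
  have hR₀S : R₀ ≤ S := inf_le_left.trans hPS
  obtain ⟨R', hc, hR'n⟩ := exists_isFullyNormalized F hR₀S
  have key : centralizerIn T R' ≤ R' := by
    obtain ⟨g, hg, hgi, -⟩ := exists_map_to_fullyNormalized hS hF hR'n hc
    have hPN : P ≤ normalizerIn S R₀ := fun a ha => by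
      haveI : Finite R₀ := finite_of_le hR₀S
      exact ⟨hPS ha, mem_normalizer_of_maps fun r hr =>
        ⟨P.mul_mem (P.mul_mem ha hr.1) (P.inv_mem ha), conj_mem_closed hT (hPS ha) hr.2⟩⟩
    have hgP := (hg.mono hPN).isIso
    set P' := imgSub g P with hP'
    have hP'c : F.IsCentric P' := isCentric_of_isConj hPc hgP.isConj
    have hR'P' : R' ≤ P' := fun r hr => by
      obtain ⟨r₀, hr₀, rfl⟩ := hgi.exists_preimage hr
      exact hgP.mem hr₀.1
    have hP'T : ∀ w ∈ P', w ∈ T → w ∈ R' := fun w hw hwT => by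
      obtain ⟨w₀, hw₀, rfl⟩ := hgP.exists_preimage hw
      obtain ⟨v, hv, hvg, -⟩ := hgP.exists_symm
      have hvT := (stronglyClosed_iff.1 hT).2 (P' ⊓ T) v inf_le_right (hv.isMap.mono inf_le_left)
        (g w₀) ⟨hgP.mem hw₀, hwT⟩
      rw [hvg w₀ hw₀] at hvT
      exact hgi.mem ⟨hw₀, hvT⟩
    have hP'NR : ∀ w ∈ P', w ∈ Subgroup.normalizer (R' : Set Ω) := fun w hw => by
      obtain ⟨w₀, hw₀, rfl⟩ := hgP.exists_preimage hw
      exact (hgi.mem_normalizerIn_of_extends hg (le_normalizerIn_self hR₀S) (fun _ _ => rfl)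
        (hPN hw₀) (hPN hw₀).2).2
    have step : ∀ c ∈ centralizerIn T R', c ∈ Subgroup.normalizer (P' : Set Ω) → c ∈ P' := by
      intro c hcm hcn
      obtain ⟨hcT, hcc⟩ := FusionSys.mem_centralizerIn.1 hcm
      have hcS : c ∈ S := hT.1 hcT
      have hρ : ∀ x ∈ P, c * g x * c⁻¹ ∈ P' := fun x hx =>
        (Subgroup.mem_normalizer_iff.1 hcn _).1 (hgP.mem hx)
      obtain ⟨v, hv, hvg, hgv⟩ := hgP.exists_symm
      have hm : IsMap F P (v ∘ (conjMap c ∘ g)) :=
        (hgP.isMap.comp (isMap_conj F hgP.target_le hcS) fun x hx => hgP.mem hx).comp hv.isMap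
          fun x hx => hρ x hx
      obtain ⟨α, hα, hαe⟩ := (isIso_of_mapsTo hm fun x hx => hv.mem (hρ x hx)).exists_aut
      obtain ⟨w, hw⟩ := mem_inn_of_stab hS hPS hPr (R₀ := R₀)
        (fun θ hθ x hx hxR => ⟨autMap_mem θ hx,
          (stronglyClosed_iff.1 hT).2 R₀ (autMap θ) inf_le_right
            (((mem_autGroup_iff hPS).1 hθ).mono inf_le_left) x hxR⟩) hα
        (fun x hx hxR => by
          rw [hαe x hx]
          show v (c * g x * c⁻¹) = x
          rw [← hcc _ (hgi.mem hxR), mul_inv_cancel_right, hvg x hx])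
        (fun x hx => by
          rw [hαe x hx]
          refine ⟨P.mul_mem (P.inv_mem hx) (hv.mem (hρ x hx)), ?_⟩
          have hb : (g x)⁻¹ * (c * g x * c⁻¹) ∈ P' := P'.mul_mem (P'.inv_mem (hgP.mem hx)) (hρ x hx)
          have hbT : (g x)⁻¹ * (c * g x * c⁻¹) ∈ T := by
            have := T.mul_mem (conj_mem_closed hT (S.inv_mem (hgP.target_le (hgP.mem hx))) hcT)
              (T.inv_mem hcT)
            rwa [inv_inv, show (g x)⁻¹ * c * g x * c⁻¹ = (g x)⁻¹ * (c * g x * c⁻¹) by group] at this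
          have hvT := (stronglyClosed_iff.1 hT).2 (P' ⊓ T) v inf_le_right
            (hv.isMap.mono inf_le_left) _ ⟨hb, hbT⟩
          rwa [hv.isMap.map_mul (P'.inv_mem (hgP.mem hx)) (hρ x hx),
            hv.isMap.map_inv (hgP.mem hx), hvg x hx] at hvT)
      have hgw : g w ∈ P' := hgP.mem w.2
      have hcen : (g w)⁻¹ * c ∈ centralizerIn S P' := by
        refine FusionSys.mem_centralizerIn.2 ⟨S.mul_mem (S.inv_mem (hgP.target_le hgw)) hcS,
          fun q hq => ?_⟩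
        obtain ⟨x, hx, rfl⟩ := hgP.exists_preimage hq
        have h1 : (w : Ω) * x * (w : Ω)⁻¹ = v (c * g x * c⁻¹) := by
          rw [show v (c * g x * c⁻¹) = (v ∘ (conjMap c ∘ g)) x from rfl, ← hαe x hx, ← hw,
            autMap_apply _ hx]
          rfl
        have h2 := congrArg g h1
        rw [hgP.isMap.map_conj w.2 hx, hgv _ (hρ x hx)] at h2
        calc g x * ((g w)⁻¹ * c) = (g w)⁻¹ * (g w * g x * (g w)⁻¹) * c := by group
          _ = _ := by rw [h2]; group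
      have := P'.mul_mem hgw (centralizerIn_le_of_isCentric hP'c hcen)
      rwa [mul_inv_cancel_left] at this
    intro c hcm
    have hcP : c ∈ P' := by
      by_contra hcn
      set Cc := centralizerIn T R' with hCc
      haveI : Finite Cc := finite_of_le (S := T) centralizerIn_le
      have hnorm : P' ≤ Subgroup.normalizer (Cc : Set Ω) := fun a ha => by
        refine mem_normalizer_of_maps fun d hd => ?_
        obtain ⟨hd1, hd2⟩ := FusionSys.mem_centralizerIn.1 hd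
        refine FusionSys.mem_centralizerIn.2
          ⟨conj_mem_closed hT (hP'c.1 ha) hd1, fun r hr => ?_⟩
        have hr' := (Subgroup.mem_normalizer_iff''.1 (hP'NR a ha) r).1 hr
        calc r * (a * d * a⁻¹) = a * (a⁻¹ * r * a * d) * a⁻¹ := by group
          _ = a * (d * (a⁻¹ * r * a)) * a⁻¹ := by rw [hd2 _ hr']
          _ = _ := by group
      have hKS : P' ⊔ Cc ≤ S := sup_le hP'c.1 (centralizerIn_le.trans hT.1)
      haveI : Finite (P' ⊔ Cc : Subgroup Ω) := finite_of_le hKS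
      have hlt : P' < P' ⊔ Cc := lt_of_le_of_ne le_sup_left fun he =>
        hcn (he ▸ Subgroup.mem_sup_right hcm)
      obtain ⟨d, hd, hdn⟩ := SetLike.exists_of_lt (lt_inf_normalizer_of_lt (hS.to_le hKS) hlt)
      obtain ⟨hd1, hd2⟩ := Subgroup.mem_inf.1 hd
      rw [← SetLike.mem_coe, Subgroup.coe_mul_of_left_le_normalizer_right _ _ hnorm] at hd1
      obtain ⟨a, ha, b, hb, rfl⟩ := Set.mem_mul.1 hd1
      refine hdn (P'.mul_mem ha (step b hb ?_))
      have := mul_mem (inv_mem (Subgroup.le_normalizer ha)) hd2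
      rwa [inv_mul_cancel_left] at this
    exact hP'T c hcP hcm.1
  intro Q hQ c hcm
  obtain ⟨u, hu, hui, -⟩ :=
    exists_map_to_fullyNormalized hS hF hR'n (isConj_trans (isConj_symm hQ) hc)
  obtain ⟨hcT, hcc⟩ := FusionSys.mem_centralizerIn.1 hcm
  have hcC : c ∈ centralizerIn S Q := FusionSys.mem_centralizerIn.2 ⟨hT.1 hcT, hcc⟩
  have hcN := centralizerIn_le_normalizerIn hcC
  have h1 : u c ∈ centralizerIn T R' := FusionSys.mem_centralizerIn.2
    ⟨(stronglyClosed_iff.1 hT).2 (Subgroup.zpowers c) u (Subgroup.zpowers_le.2 hcT)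
        (hu.mono (Subgroup.zpowers_le.2 hcN)) c (Subgroup.mem_zpowers c),
      (FusionSys.mem_centralizerIn.1 (hui.mem_centralizerIn_of_extends hu
        (le_normalizerIn_self hui.source_le) (fun _ _ => rfl) hcN hcC)).2⟩
  obtain ⟨q, hq, hqe⟩ := hui.exists_preimage (key h1)
  exact hu.injOn (le_normalizerIn_self hui.source_le hq) hcN hqe ▸ hq

/-- The elements centralized by `E` are closed under fusion. -/
theorem Good.closed (hS : IsPGroup p S) (hF : F.IsSaturated p) (hE : E.IsInvariantIn F) {P : Subgroup Ω}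
    {f : Ω → Ω} (hf : IsMap F P f) {x : Ω} (hx : Good F E x) (hxP : x ∈ P) : Good F E (f x) := by
  have hT := hE.2.1
  let F' : FusionSystem S := subSys F
    (fun P f => ∀ x ∈ P, Good F E x ↔ Good F E (f x))
    (fun _ _ _ h he x hx => (he x hx).symm ▸ h x hx)
    (fun _ a hP ha x hx => by
      refine ⟨fun h => h.transport hE (isMap_conj F
        (sup_le hT.1 (Subgroup.zpowers_le.2 (hP hx))) ha), fun h => ?_⟩
      have := h.transport hE (isMap_conj F
        (sup_le hT.1 (Subgroup.zpowers_le.2 (S.mul_mem (S.mul_mem ha (hP hx)) (S.inv_mem ha))))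
        (S.inv_mem ha))
      simpa [conjMap_apply, mul_assoc] using this)
    (fun _ _ f g _ _ hm h1 h2 x hx => (h1 x hx).trans (h2 _ (hm x hx)))
    (fun P Q f g hf _ hinv h y hy => by
      obtain ⟨x, hx, rfl⟩ := hf.exists_preimage hy
      rw [hinv x hx]
      exact (h x hx).symm)
  suffices hle : F ≤ F' by
    obtain ⟨φ, ⟨-, h⟩, hφ⟩ := le_iff_isMap.1 hle P f hf
    have h' := (h x hxP).1 hx
    rwa [homFun_mem φ hxP, hφ ⟨x, hxP⟩] at h'
  refine le_of_autGroup_centricRadical hS hF fun P hPn hPc hPr α hα => ?_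
  have hPS := hPn.1
  have dir : ∀ β ∈ F.autGroup P, ∀ x ∈ P, Good F E x → Good F E (autMap β x) := by
    intro β hβ x hxP hx
    have hβm := isIso_autMap hPS hβ
    refine good_of_centralizes hS hF hE hx (hβm.isMap.mono (Subgroup.zpowers_le.2 hxP)) (P ⊓ T)
      inf_le_right (ctr_inf hS hF hT hPc hPr) fun r hr => ?_
    refine FusionSys.mem_centralizerIn.2 ⟨hPS hr.1, fun w hw => ?_⟩
    obtain ⟨m, rfl⟩ := hw
    obtain ⟨r₀, hr₀, hre⟩ := hβm.exists_preimage hr.1
    have hr₀T : r₀ ∈ T := by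
      have hmap := ((mem_autGroup_iff hPS).1 (Subgroup.inv_mem _ hβ)).mono
        (inf_le_left : P ⊓ T ≤ P)
      have := (stronglyClosed_iff.1 hT).2 (P ⊓ T) _ inf_le_right hmap r hr
      rwa [← hre, ← autMap_mul _ _ hr₀, inv_mul_cancel, FusionSys.autMap_one hr₀] at this
    refine (Commute.zpow_left (show Commute (autMap β x) r from ?_) m).eq
    show _ = _
    rw [← hre, ← hβm.isMap.map_mul hxP hr₀, ← hβm.isMap.map_mul hr₀ hxP,
      (FusionSys.mem_centralizerIn.1 hx.1).2 r₀ hr₀T]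
  refine mem_autGroup_of_isMap ?_
  obtain ⟨φ, hφ, hφe⟩ := (mem_autGroup_iff hPS).1 hα
  refine ⟨φ, ⟨hφ, fun x hx => ?_⟩, hφe⟩
  rw [homFun_mem φ hx, hφe ⟨x, hx⟩]
  refine ⟨dir α hα x hx, fun h => ?_⟩
  have := dir α⁻¹ (Subgroup.inv_mem _ hα) _ (autMap_mem α hx) h
  rwa [← autMap_mul _ _ hx, inv_mul_cancel, FusionSys.autMap_one hx] at this

end Cfsg.Agent.H91.CentSE
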