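import Cfsg.Agent.H91.CentSE.Good

/-!
The elements centralized by a normal subsystem generate a subgroup centralized by it.
-/

set_option autoImplicit false
set_option linter.style.haveILetI false

namespace Cfsg.Agent.H91.CentSE

open Cfsg Cfsg.FusionSystem Cfsg.Agent.FusionSys Cfsg.Agent.H91.CentFocal
open Cfsg.FusionSystem (centralizerIn normalizerIn)

variable {Ω : Type*} [Group Ω] {S T : Subgroup Ω} {F : FusionSystem S} {E : FusionSystem T}
  {p : ℕ} [Finite S] [Fact p.Prime]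

variable (hS : IsPGroup p S) (hF : F.IsSaturated p) (hE : E.IsNormalIn F p)
include hS hF hE

/-- The maps of `E` extend to maps fixing all the elements centralized by `E`. -/
theorem exists_fixing_good {P : Subgroup Ω} {f : Ω → Ω} (hf : IsMap E P f) :
    ∃ g, IsMap F (P ⊔ Subgroup.closure {x | Good F E x}) g ∧ (∀ x ∈ P, g x = f x) ∧
      ∀ y ∈ Subgroup.closure {x | Good F E x}, g y = y := by
  set Y := Subgroup.closure {x | Good F E x} with hY
  obtain ⟨⟨hEs, -, hinv⟩, -⟩ := id hE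
  have hcl := hinv.2.1
  have hsub := hinv.1
  have hTS : T ≤ S := hcl.1
  haveI : Finite T := finite_of_le hTS
  have hTp : IsPGroup p T := hS.to_le hTS
  have hYC : Y ≤ centralizerIn S T := (Subgroup.closure_le _).2 fun x hx => hx.1
  have hYS : Y ≤ S := hYC.trans centralizerIn_le
  have hYc : ∀ y ∈ Y, ∀ t ∈ T, t * y = y * t := fun y hy =>
    (FusionSys.mem_centralizerIn.1 (hYC hy)).2
  let E' : FusionSystem T := subSys E
    (fun P f => ∃ g, IsMap F (P ⊔ Y) g ∧ (∀ x ∈ P, g x = f x) ∧ ∀ y ∈ Y, g y = y)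
    (fun _ _ _ ⟨g, h1, h2, h3⟩ he => ⟨g, h1, fun x hx => (h2 x hx).trans (he x hx).symm, h3⟩)
    (fun A a hA ha => ⟨conjMap a, isMap_conj F (sup_le (hA.trans hTS) hYS) (hTS ha),
      fun _ _ => rfl, fun y hy => by rw [conjMap_apply, hYc y hy a ha, mul_inv_cancel_right]⟩)
    (fun A B u v _ _ hm ⟨u', hu', hu'e, hu'Y⟩ ⟨v', hv', hv'e, hv'Y⟩ => by
      refine ⟨v' ∘ u', hu'.comp hv' fun x hx => ?_, fun x hx => ?_, fun y hy => ?_⟩
      · exact hu'.mapsTo_sup (fun z hz => Subgroup.mem_sup_left ((hu'e z hz).symm ▸ hm z hz))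
          (fun z hz => Subgroup.mem_sup_right ((hu'Y z hz).symm ▸ hz)) hx
      · rw [Function.comp_apply, Function.comp_apply, hu'e x hx, hv'e _ (hm x hx)]
      · rw [Function.comp_apply, hu'Y y hy, hv'Y y hy])
    (fun A B u v hu _ hinv' ⟨u', hu', hu'e, hu'Y⟩ => by
      obtain ⟨v', hv', hvu⟩ := hu'.exists_inv
      have hle : B ⊔ Y ≤ imgSub u' (A ⊔ Y) := by
        refine sup_le (fun z hz => ?_) fun z hz =>
          hu'.mem_imgSub.2 ⟨z, Subgroup.mem_sup_right hz, hu'Y z hz⟩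
        obtain ⟨x, hx, rfl⟩ := hu.exists_preimage hz
        exact hu'.mem_imgSub.2 ⟨x, Subgroup.mem_sup_left hx, hu'e x hx⟩
      refine ⟨v', hv'.mono hle, fun z hz => ?_, fun z hz => ?_⟩
      · obtain ⟨x, hx, rfl⟩ := hu.exists_preimage hz
        rw [hinv' x hx, ← hu'e x hx, hvu x (Subgroup.mem_sup_left hx)]
      · conv_lhs => rw [← hu'Y z hz]
        exact hvu z (Subgroup.mem_sup_right hz))
  suffices hle : E ≤ E' by
    obtain ⟨φ, ⟨-, g, hg, hge, hgY⟩, hφ⟩ := le_iff_isMap.1 hle P f hf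
    exact ⟨g, hg, fun x hx => (hge x hx).trans ((homFun_mem φ hx).trans (hφ ⟨x, hx⟩)), hgY⟩
  refine le_of_autGroup_centricRadical hTp hEs fun R hRn hRc _ => ?_
  have hRT : R ≤ T := hRn.1
  haveI := finite_autGroup E hRT
  rw [← Subgroup.subgroupOf_eq_top]
  obtain ⟨-, Sy, hSy⟩ := isFullyAutomized_of_isFullyNormalized hTp hEs hRn
  refine eq_top_of_sylow_le _ Sy ?_ fun α hα => ?_
  · rw [hSy]
    exact fun γ hγ => autInducedBy_le_autGroup E' hRT hγ
  rw [Subgroup.mem_subgroupOf]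
  have hRS : R ≤ S := hRT.trans hTS
  obtain ⟨R', hRR', hR'n⟩ := exists_isFullyNormalized F hRS
  obtain ⟨g, hg, hgi, hgm⟩ := exists_map_to_fullyNormalized hS hF hR'n hRR'
  have hα' := autEquiv_mem hinv hRT hgi α.2
  obtain ⟨β0, hβ0, hβ0e, hβ0c⟩ :=
    hasExt_all hS hF hE (isCentric_target hinv hRc hgi) hR'n hα'
  obtain ⟨k, b, hbp, hβ, hβb, hβe⟩ :=
    exists_pPrime_power (p := p) hβ0 fun x hx => HasExt.mapsTo hβ0 hβ0e hβ0c hx
  have hord : hgi.autEquiv (α : MulAut R) ^ orderOf α = 1 := by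
    rw [← map_pow, ← SubgroupClass.coe_pow, pow_orderOf_eq_one, Subgroup.coe_one, map_one]
  have hβR : ∀ r ∈ R', β0^[k] r = autMap (hgi.autEquiv (α : MulAut R)) r := fun r hr => by
    rw [hβe r (Subgroup.mem_sup_left hr) (orderOf α) hα
      (by rw [autMap_pow _ hβ0e _ hr, hord, FusionSys.autMap_one hr]), hβ0e r hr]
  have hR'c := isFullyCentralized_of_isFullyNormalized hS hF hR'n
  have hβm : ∀ c ∈ centralizerIn S R', c⁻¹ * β0^[k] c ∈ R' := fun c hc =>
    iterate_mod (fun x hx => HasExt.mapsTo hβ0 hβ0e hβ0c hx)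
      (fun x hx => HasExt.mod hβ0 hβ0e hβ0c hx) k (Subgroup.mem_sup_right hc)
  have hfix := fix_focal hS hF hR'c hβ (fun r hr => (hβR r hr).symm ▸ autMap_mem _ hr) hβm hbp hβb
  have hCTR : centralizerIn S T ≤ centralizerIn S R := fun c hc =>
    FusionSys.mem_centralizerIn.2 ⟨hc.1, fun r hr =>
      (FusionSys.mem_centralizerIn.1 hc).2 r (hRT hr)⟩
  have hCN : centralizerIn S T ≤ normalizerIn S R := hCTR.trans centralizerIn_le_normalizerIn
  have hRN : R ≤ normalizerIn S R := le_normalizerIn_self hRS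
  -- the images of the elements of `Y`
  let K : Subgroup Ω :=
    { carrier := {y | y ∈ normalizerIn S R ∧ g y ∈ R' ⊔ centralizerIn S R' ∧ β0^[k] (g y) = g y}
      one_mem' := ⟨one_mem _, by rw [hg.map_one]; exact one_mem _,
        by rw [hg.map_one]; exact hβ.map_one⟩
      mul_mem' := fun {a b} ha hb => ⟨mul_mem ha.1 hb.1,
        by rw [hg.map_mul ha.1 hb.1]; exact mul_mem ha.2.1 hb.2.1,
        by rw [hg.map_mul ha.1 hb.1, hβ.map_mul ha.2.1 hb.2.1, ha.2.2, hb.2.2]⟩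
      inv_mem' := fun {a} ha => ⟨Subgroup.inv_mem _ ha.1,
        by rw [hg.map_inv ha.1]; exact Subgroup.inv_mem _ ha.2.1,
        by rw [hg.map_inv ha.1, hβ.map_inv ha.2.1, ha.2.2]⟩ }
  have hYK : Y ≤ K := by
    refine (Subgroup.closure_le K).2 fun x hx => ?_
    have hxC : x ∈ centralizerIn S R := hCTR hx.1
    have hxN : x ∈ normalizerIn S R := centralizerIn_le_normalizerIn hxC
    have hx'C : g x ∈ centralizerIn S R' :=
      hgi.mem_centralizerIn_of_extends hg hRN (fun _ _ => rfl) hxN hxC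
    refine ⟨hxN, Subgroup.mem_sup_right hx'C, ?_⟩
    obtain ⟨γ, hγ, hγe, hγx⟩ := hx.2 R (autMap (α : MulAut R)) ((mem_autGroup_iff hRT).1 α.2)
    have hxm : x ∈ R ⊔ Subgroup.zpowers x := Subgroup.mem_sup_right (Subgroup.mem_zpowers x)
    have hγim : ∀ z ∈ R ⊔ Subgroup.zpowers x, γ z ∈ R ⊔ Subgroup.zpowers x := fun z hz =>
      hγ.mapsTo_sup (fun r hr => Subgroup.mem_sup_left ((hγe r hr).symm ▸ autMap_mem _ hr))
        (fun w hw => Subgroup.mem_sup_right ((fix_zpowers hγ hxm hγx hw).symm ▸ hw)) hz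
    haveI : Finite (R ⊔ Subgroup.zpowers x : Subgroup Ω) := finite_of_le hγ.le
    obtain ⟨δ, hδ, hδγ, -⟩ := (isIso_of_mapsTo hγ hγim).exists_symm
    have hgX : IsMap F (R ⊔ Subgroup.zpowers x) g :=
      hg.mono (sup_le hRN (Subgroup.zpowers_le.2 hxN))
    obtain ⟨v, hv, hvg, -⟩ := hgX.isIso.exists_symm
    set X' := imgSub g (R ⊔ Subgroup.zpowers x) with hX'
    have hγ' : IsMap F X' (g ∘ (δ ∘ v)) :=
      (hv.isMap.comp hδ.isMap fun z hz => hv.mem hz).comp hgX fun z hz => hδ.mem (hv.mem hz)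
    set d := (g x)⁻¹ * β0^[k] (g x) with hd
    have hdR : d ∈ R' := hβm _ hx'C
    have hβx : β0^[k] (g x) = g x * d := (mul_inv_cancel_left _ _).symm
    have hR'X : R' ≤ X' := fun r hr => by
      obtain ⟨r0, hr0, rfl⟩ := hgi.exists_preimage hr
      exact hgX.mem_imgSub.2 ⟨r0, Subgroup.mem_sup_left hr0, rfl⟩
    have hxX : g x ∈ X' := hgX.mem_imgSub.2 ⟨x, hxm, rfl⟩
    have hγ'β : ∀ r ∈ R', (g ∘ (δ ∘ v)) (β0^[k] r) = r := fun r hr => by
      obtain ⟨r0, hr0, rfl⟩ := hgi.exists_preimage hr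
      have hm : autMap (α : MulAut R) r0 ∈ R := autMap_mem _ hr0
      rw [hβR _ hr, hgi.autMap_autEquiv _ hr0, Function.comp_apply, Function.comp_apply,
        hvg _ (Subgroup.mem_sup_left hm), ← hγe r0 hr0, hδγ r0 (Subgroup.mem_sup_left hr0)]
    have hX'C : X' ≤ R' ⊔ centralizerIn S R' := fun z hz => by
      obtain ⟨w, hw, rfl⟩ := hgX.mem_imgSub.1 hz
      exact hgX.mapsTo_sup (fun r hr => Subgroup.mem_sup_left (hgi.mem hr))
        (fun w hw => Subgroup.mem_sup_right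
          (Subgroup.zpowers_le.2 hx'C (mem_zpowers_image hgX hxm hw))) hw
    have hsup : Subgroup.zpowers (g x) ⊔ R' ≤ X' := sup_le (Subgroup.zpowers_le.2 hxX) hR'X
    have hβX : ∀ z ∈ Subgroup.zpowers (g x) ⊔ R', β0^[k] z ∈ X' := fun z hz =>
      (hβ.mono (hsup.trans hX'C)).mapsTo_sup (fun w hw => Subgroup.zpowers_le.2
          (show β0^[k] (g x) ∈ X' from hβx.symm ▸ mul_mem hxX (hR'X hdR))
          (mem_zpowers_image hβ (Subgroup.mem_sup_right hx'C) hw))
        (fun r hr => hR'X ((hβR r hr).symm ▸ autMap_mem _ hr)) hz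
    have hδ' : IsMap F (Subgroup.zpowers (g x) ⊔ R') ((g ∘ (δ ∘ v)) ∘ β0^[k]) :=
      (hβ.mono (hsup.trans hX'C)).comp hγ' hβX
    have hδ'D : IsMap (centSys F hR'c.1) (Subgroup.zpowers (g x)) ((g ∘ (δ ∘ v)) ∘ β0^[k]) :=
      (isMap_centSys_iff hR'c.1).2 ⟨Subgroup.zpowers_le.2 hx'C, fun z hz =>
        ((isIso_id F hR'n.1).congr hγ'β).mem_centralizerIn_of_extends hδ' le_sup_right
          (fun _ _ => rfl) (Subgroup.mem_sup_left hz) (Subgroup.zpowers_le.2 hx'C hz),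
        _, hδ', fun _ _ => rfl, hγ'β⟩
    set e := (g ∘ (δ ∘ v)) d with he'
    have hev : ((g ∘ (δ ∘ v)) ∘ β0^[k]) (g x) = g x * e := by
      rw [Function.comp_apply, hβx, hγ'.map_mul hxX (hR'X hdR)]
      congr 1
      rw [Function.comp_apply, Function.comp_apply, hvg x hxm]
      congr 1
      conv_lhs => rw [← hγx]
      exact hδγ x hxm
    haveI : Finite R' := finite_of_le hR'n.1
    obtain ⟨d₀, hd₀, hd₀e⟩ : ∃ d₀ ∈ R', β0^[k] d₀ = d := by
      obtain ⟨d₀, hd₀, h0⟩ := (isIso_of_mapsTo (hβ.mono le_sup_left)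
        fun r hr => (hβR r hr).symm ▸ autMap_mem _ hr).exists_preimage hdR
      exact ⟨d₀, hd₀, h0⟩
    have hed : e = d₀ := by rw [he', ← hd₀e, hγ'β d₀ hd₀]
    have hef : e ∈ (centSys F hR'c.1).focalSubgroup := by
      obtain ⟨ψ, hψ', hψe⟩ := hδ'D
      refine Subgroup.subset_closure ⟨_, ψ, ⟨g x, Subgroup.mem_zpowers _⟩, hψ', ?_⟩
      rw [hψe]
      show e = (g x)⁻¹ * ((g ∘ (δ ∘ v)) ∘ β0^[k]) (g x)
      rw [hev, inv_mul_cancel_left]
    have hβd : β0^[k] d = d := by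
      have h1 := hfix e hef
      rw [hed, hd₀e] at h1
      rw [← h1] at hd₀e
      exact hd₀e
    have key : ∀ j : ℕ, (β0^[k])^[j] (g x) = g x * d ^ j := by
      intro j
      induction j with
      | zero => simp
      | succ j ih =>
        rw [Function.iterate_succ_apply', ih, hβ.map_mul (Subgroup.mem_sup_right hx'C)
          (Subgroup.mem_sup_left (pow_mem hdR j)), hβ.map_pow (Subgroup.mem_sup_left hdR), hβd, hβx,
          pow_succ', mul_assoc]
    have hd1 : d = 1 := by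
      have h := key b
      rw [hβb _ (Subgroup.mem_sup_right hx'C), left_eq_mul] at h
      exact Subgroup.mem_bot.1
        (mem_of_pow_mem hS (hR'n.1 hdR) hbp (by rw [h]; exact Subgroup.one_mem _))
    rw [hβx, hd1, mul_one]
  obtain ⟨g', hg', hg'e⟩ := hg.exists_inv
  have hRY : R ⊔ Y ≤ normalizerIn S R := sup_le hRN (hYC.trans hCN)
  have hgP : IsMap F (R ⊔ Y) g := hg.mono hRY
  have hgX : ∀ x ∈ R ⊔ Y, g x ∈ R' ⊔ centralizerIn S R' := fun x hx => hgP.mapsTo_sup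
    (fun r hr => Subgroup.mem_sup_left (hgi.mem hr))
    (fun y hy => Subgroup.mem_sup_right (hgi.mem_centralizerIn_of_extends hg hRN (fun _ _ => rfl)
      (hRY (Subgroup.mem_sup_right hy)) (hCTR (hYC hy)))) hx
  have hcomp : IsMap F (R ⊔ Y) (β0^[k] ∘ g) := hgP.comp hβ hgX
  have himg : ∀ x ∈ R ⊔ Y, (β0^[k] ∘ g) x ∈ imgSub g (normalizerIn S R) := fun x hx =>
    hcomp.mapsTo_sup
      (fun r hr => hg.mem_imgSub.2 ⟨_, hRN (autMap_mem (α : MulAut R) hr), by
        rw [Function.comp_apply, hβR _ (hgi.mem hr), hgi.autMap_autEquiv _ hr]⟩)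
      (fun y hy => hg.mem_imgSub.2 ⟨y, hRY (Subgroup.mem_sup_right hy), by
        rw [Function.comp_apply, (hYK hy).2.2]⟩) hx
  obtain ⟨φ, hφ, hφe⟩ := (mem_autGroup_iff hRT).1 α.2
  refine mem_autGroup_of_isMap ⟨φ, ⟨hφ, _, hcomp.comp hg' himg, fun r hr => ?_, fun y hy => ?_⟩, hφe⟩
  · rw [homFun_mem φ hr, hφe ⟨r, hr⟩, Function.comp_apply, Function.comp_apply,
      hβR _ (hgi.mem hr), hgi.autMap_autEquiv _ hr, hg'e _ (hRN (autMap_mem _ hr))]
  · rw [Function.comp_apply, Function.comp_apply, (hYK hy).2.2,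
      hg'e _ (hRY (Subgroup.mem_sup_right hy))]

theorem good_iff_mem_closure {x : Ω} :
    Good F E x ↔ x ∈ Subgroup.closure {x | Good F E x} := by
  refine ⟨fun h => Subgroup.subset_closure h, fun hx => ⟨?_, fun P f hf => ?_⟩⟩
  · exact (Subgroup.closure_le _).2 (fun y (hy : Good F E y) => hy.1) hx
  · obtain ⟨g, hg, hge, hgY⟩ := exists_fixing_good hS hF hE hf
    exact ⟨g, hg.mono (sup_le_sup_left (Subgroup.zpowers_le.2 hx) P), hge, hgY x hx⟩

end Cfsg.Agent.H91.CentSE
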