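import Cfsg.Agent.H91.CentFocal.Fix

/-!
Automorphisms stabilizing a series through a radical subgroup are inner, and conjugation by elements of a
strongly closed subgroup `T` commutes with the centralizer system of a subgroup `R` of `T` with
`C_T(R) ≤ R`.
-/

set_option autoImplicit false
set_option linter.style.haveILetI false

namespace Cfsg.Agent.H91.CentSE

open Cfsg Cfsg.FusionSystem Cfsg.Agent.FusionSys Cfsg.Agent.H91.CentFocal
open Cfsg.FusionSystem (centralizerIn normalizerIn)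

variable {Ω : Type*} [Group Ω] {S T : Subgroup Ω} {F : FusionSystem S} {p : ℕ}

/-- An automorphism trivial on an invariant subgroup `R₀` and modulo it lies in `O_p` of the automorphism
group. -/
theorem mem_pCore_of_stab [Finite S] [Fact p.Prime] (hS : IsPGroup p S) {P R₀ : Subgroup Ω} (hP : P ≤ S)
    (hinv : ∀ θ ∈ F.autGroup P, ∀ x ∈ P, x ∈ R₀ → autMap θ x ∈ R₀)
    {α : MulAut P} (hα : α ∈ F.autGroup P) (hfix : ∀ x ∈ P, x ∈ R₀ → autMap α x = x)
    (hmod : ∀ x ∈ P, x⁻¹ * autMap α x ∈ R₀) :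
    α ∈ (pCore p (F.autGroup P)).map (F.autGroup P).subtype := by
  haveI : Finite P := finite_of_le hP
  let N : Subgroup (F.autGroup P) :=
    { carrier := {δ | (∀ x ∈ P, x⁻¹ * autMap (δ : MulAut P) x ∈ R₀) ∧
        ∀ x ∈ P, x ∈ R₀ → autMap (δ : MulAut P) x = x}
      one_mem' := ⟨fun x hx => by simp [FusionSys.autMap_one hx, R₀.one_mem],
        fun x hx _ => FusionSys.autMap_one hx⟩
      mul_mem' := by
        intro δ ε hδ hε
        refine ⟨fun x hx => ?_, fun x hx hxR => ?_⟩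
        · rw [Subgroup.coe_mul, autMap_mul _ _ hx]
          have := R₀.mul_mem (hε.1 x hx) (hδ.1 _ (autMap_mem (ε : MulAut P) hx))
          rwa [mul_assoc, mul_inv_cancel_left] at this
        · rw [Subgroup.coe_mul, autMap_mul _ _ hx, hε.2 x hx hxR, hδ.2 x hx hxR]
      inv_mem' := by
        intro δ hδ
        refine ⟨fun x hx => ?_, fun x hx hxR => ?_⟩
        · rw [Subgroup.coe_inv]
          have hy := autMap_mem (δ : MulAut P)⁻¹ hx
          have := R₀.inv_mem (hδ.1 _ hy)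
          rwa [autMap_inv_apply _ hx, _root_.mul_inv_rev, inv_inv] at this
        · rw [Subgroup.coe_inv]
          conv_lhs => rw [← hδ.2 x hx hxR]
          rw [← autMap_mul _ _ hx, inv_mul_cancel, FusionSys.autMap_one hx] }
  have hN : N.Normal := by
    refine ⟨fun δ hδ θ => ⟨fun x hx => ?_, fun x hx hxR => ?_⟩⟩
    · set y := autMap (θ : MulAut P)⁻¹ x
      have hy : y ∈ P := autMap_mem _ hx
      have hd := hδ.1 y hy
      have hdP : y⁻¹ * autMap (δ : MulAut P) y ∈ P := P.mul_mem (P.inv_mem hy) (autMap_mem _ hy)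
      have hθm : IsMap F P (autMap (θ : MulAut P)) := (mem_autGroup_iff hP).1 θ.2
      rw [Subgroup.coe_mul, Subgroup.coe_mul, Subgroup.coe_inv, autMap_mul _ _ hx, autMap_mul _ _ hy,
        show autMap (δ : MulAut P) y = y * (y⁻¹ * autMap (δ : MulAut P) y) by group,
        hθm.map_mul hy hdP, autMap_inv_apply _ hx, inv_mul_cancel_left]
      exact hinv _ θ.2 _ hdP hd
    · have hy : autMap (θ : MulAut P)⁻¹ x ∈ P := autMap_mem _ hx
      have hyR := hinv _ (Subgroup.inv_mem _ θ.2) x hx hxR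
      rw [Subgroup.coe_mul, Subgroup.coe_mul, Subgroup.coe_inv, autMap_mul _ _ hx,
        autMap_mul _ _ hy, hδ.2 _ hy hyR, autMap_inv_apply _ hx]
  have hNp : IsPGroup p N := by
    obtain ⟨n, hn⟩ := IsPGroup.iff_card.1 (hS.to_le hP)
    rintro ⟨δ, hδ⟩
    refine ⟨n, Subtype.ext (Subtype.ext (aut_ext fun x hx => ?_))⟩
    simp only [SubgroupClass.coe_pow, Subgroup.coe_one]
    have hdP : x⁻¹ * autMap (δ : MulAut P) x ∈ P := P.mul_mem (P.inv_mem hx) (autMap_mem _ hx)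
    have hδm : IsMap F P (autMap (δ : MulAut P)) := (mem_autGroup_iff hP).1 δ.2
    have key : ∀ j : ℕ, autMap ((δ : MulAut P) ^ j) x = x * (x⁻¹ * autMap (δ : MulAut P) x) ^ j := by
      intro j
      induction j with
      | zero => rw [pow_zero, pow_zero, FusionSys.autMap_one hx, mul_one]
      | succ j ih =>
        rw [pow_succ', autMap_mul _ _ hx, ih, hδm.map_mul hx (P.pow_mem hdP j),
          hδ.2 _ (P.pow_mem hdP j) (R₀.pow_mem (hδ.1 x hx) j), pow_succ', ← mul_assoc x,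
          mul_inv_cancel_left]
    rw [key, ← hn, show (x⁻¹ * autMap (δ : MulAut P) x) ^ Nat.card P = 1 from
      congrArg Subtype.val (pow_card_eq_one' (x := (⟨_, hdP⟩ : P))), mul_one, FusionSys.autMap_one hx]
  exact Subgroup.mem_map_of_mem (F.autGroup P).subtype
    ((le_sSup ⟨hN, hNp⟩ : N ≤ pCore p (F.autGroup P))
      (show (⟨α, hα⟩ : F.autGroup P) ∈ N from ⟨hmod, hfix⟩))

/-- An automorphism of a radical subgroup trivial on an invariant subgroup `R₀` and modulo it is inner. -/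
theorem mem_inn_of_stab [Finite S] [Fact p.Prime] (hS : IsPGroup p S) {P R₀ : Subgroup Ω} (hP : P ≤ S)
    (hPr : F.IsRadical p P) (hinv : ∀ θ ∈ F.autGroup P, ∀ x ∈ P, x ∈ R₀ → autMap θ x ∈ R₀)
    {α : MulAut P} (hα : α ∈ F.autGroup P) (hfix : ∀ x ∈ P, x ∈ R₀ → autMap α x = x)
    (hmod : ∀ x ∈ P, x⁻¹ * autMap α x ∈ R₀) : α ∈ Inn P :=
  hPr.2 ▸ mem_pCore_of_stab hS hP hinv hα hfix hmod

/-- Conjugation by `t ∈ N_T(R)` modulo `R` is unchanged by maps of `C_F(R)`. -/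
theorem commutator_invariant [Finite S] [Fact p.Prime] (hS : IsPGroup p S) (hF : F.IsSaturated p)
    (hT : F.StronglyClosed T) {R : Subgroup Ω} (hRT : R ≤ T) (hR : F.IsFullyCentralized R)
    (hCR : centralizerIn T R ≤ R) {t : Ω} (ht : t ∈ normalizerIn T R) {A : Subgroup Ω} {μ : Ω → Ω}
    (hμ : IsMap (centSys F hR.1) A μ) {a : Ω} (ha : a ∈ A) :
    t * μ a * t⁻¹ * (μ a)⁻¹ = t * a * t⁻¹ * a⁻¹ := by
  set C := centralizerIn S R with hC
  set f : Ω → Ω := fun c => t * c * t⁻¹ * c⁻¹ with hf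
  have htS : t ∈ S := hT.1 ht.1
  haveI : Finite C := finite_of_le centralizerIn_le
  haveI : Finite R := finite_of_le hR.1
  have hCp : IsPGroup p C := hS.to_le centralizerIn_le
  have htC : t ∈ Subgroup.normalizer (C : Set Ω) := le_normalizer_centralizerIn htS ht.2
  have htconj : ∀ c ∈ C, t * c * t⁻¹ ∈ C := fun c hc => (Subgroup.mem_normalizer_iff.1 htC c).1 hc
  have hfR : ∀ c ∈ C, f c ∈ R := fun c hc => by
    refine hCR (FusionSys.mem_centralizerIn.2 ⟨?_, ?_⟩)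
    · simp only [hf]
      rw [show t * c * t⁻¹ * c⁻¹ = t * (c * t⁻¹ * c⁻¹) by group]
      exact T.mul_mem ht.1 (conj_mem_closed hT hc.1 (T.inv_mem ht.1))
    · exact (FusionSys.mem_centralizerIn.1 (C.mul_mem (htconj c hc) (C.inv_mem hc))).2
  have hfC : ∀ c ∈ C, f c ∈ C := fun c hc => C.mul_mem (htconj c hc) (C.inv_mem hc)
  have hcomm : ∀ x ∈ C, ∀ y ∈ C, f x * y = y * f x := fun x hx y hy =>
    (FusionSys.mem_centralizerIn.1 hy).2 _ (hfR x hx)
  have hfmul : ∀ x ∈ C, ∀ y ∈ C, f (x * y) = f x * f y := fun x hx y hy => by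
    calc f (x * y) = t * x * t⁻¹ * (f y * x⁻¹) := by simp only [hf]; group
      _ = t * x * t⁻¹ * (x⁻¹ * f y) := by rw [hcomm y hy _ (C.inv_mem hx)]
      _ = _ := by simp only [hf]; group
  have hfconj : ∀ c ∈ C, ∀ x ∈ C, f (c * x * c⁻¹) = f x := fun c hc x hx => by
    have h1 : f c * f c⁻¹ = 1 := by rw [← hfmul c hc _ (C.inv_mem hc)]; simp [hf]
    calc f (c * x * c⁻¹) = f c * f x * f c⁻¹ := by
          rw [hfmul _ (C.mul_mem hc hx) _ (C.inv_mem hc), hfmul c hc x hx]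
      _ = f x * (f c * f c⁻¹) := by rw [hcomm c hc _ (hfC x hx), mul_assoc]
      _ = f x := by rw [h1, mul_one]
  have hsat : (centSys F hR.1).IsSaturated p :=
    isSaturated_centralizer hS hF hR (isCentralizerSystem_centSys F hR.1)
  let D' : FusionSystem C := subSys (centSys F hR.1) (fun P ψ => ∀ x ∈ P, f (ψ x) = f x)
    (fun _ _ _ h he x hx => (he x hx).symm ▸ h x hx)
    (fun _ b hP hb x hx => hfconj b hb x (hP hx))
    (fun _ _ ψ χ _ _ hm h1 h2 x hx => (h2 _ (hm x hx)).trans (h1 x hx))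
    (fun P Q ψ χ hψ _ hinv h y hy => by
      obtain ⟨x, hx, rfl⟩ := hψ.exists_preimage hy
      rw [hinv x hx, h x hx])
  suffices hle : centSys F hR.1 ≤ D' by
    obtain ⟨φ, ⟨-, h⟩, hφ⟩ := le_iff_isMap.1 hle A μ hμ
    have h' := h a ha
    rw [homFun_mem φ ha, hφ ⟨a, ha⟩] at h'
    exact h'
  refine le_of_autGroup_centricRadical hCp hsat fun P hPn hPc hPr α hα => ?_
  have hPC : P ≤ C := hPn.1
  haveI : Finite P := finite_of_le hPC
  have hZP : ∀ z ∈ R, z ∈ C → z ∈ P := fun z hzR hzC =>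
    centralizerIn_le_of_isCentric hPc (FusionSys.mem_centralizerIn.2 ⟨hzC, fun y hy =>
      ((FusionSys.mem_centralizerIn.1 (hPC hy)).2 z hzR).symm⟩)
  have hfP : ∀ x ∈ P, f x ∈ P := fun x hx => hZP _ (hfR x (hPC hx)) (hfC x (hPC hx))
  have htP : ∀ x ∈ P, t * x * t⁻¹ ∈ P := fun x hx => by
    rw [show t * x * t⁻¹ = f x * x by simp [hf]]
    exact P.mul_mem (hfP x hx) hx
  have htR : ∀ r ∈ R, t * r * t⁻¹ ∈ R := fun r hr => (Subgroup.mem_normalizer_iff.1 ht.2 r).1 hr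
  have htR' : ∀ r ∈ R, t⁻¹ * r * t ∈ R := fun r hr => (Subgroup.mem_normalizer_iff''.1 ht.2 r).1 hr
  have htnP : t ∈ Subgroup.normalizer (P : Set Ω) := mem_normalizer_of_maps htP
  have htP' : ∀ x ∈ P, t⁻¹ * x * t ∈ P := fun x hx => (Subgroup.mem_normalizer_iff''.1 htnP x).1 hx
  obtain ⟨-, -, g, hg, hge, hgR⟩ := (isMap_centSys_iff hR.1).1 ((mem_autGroup_iff hPC).1 hα)
  have hXS : P ⊔ R ≤ S := hg.le
  haveI : Finite (P ⊔ R : Subgroup Ω) := finite_of_le hXS
  have hgX : ∀ x ∈ P ⊔ R, g x ∈ P ⊔ R := fun x hx => hg.mapsTo_sup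
    (fun y hy => Subgroup.mem_sup_left ((hge y hy).symm ▸ autMap_mem α hy))
    (fun r hr => Subgroup.mem_sup_right ((hgR r hr).symm ▸ hr)) hx
  have htX : ∀ x ∈ P ⊔ R, t * x * t⁻¹ ∈ P ⊔ R := fun x hx =>
    (isMap_conj F hXS htS).mapsTo_sup (fun y hy => Subgroup.mem_sup_left (htP y hy))
      (fun r hr => Subgroup.mem_sup_right (htR r hr)) hx
  have htnX : t ∈ Subgroup.normalizer ((P ⊔ R : Subgroup Ω) : Set Ω) := mem_normalizer_of_maps htX
  have htX' : ∀ x ∈ P ⊔ R, t⁻¹ * x * t ∈ P ⊔ R := fun x hx =>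
    (Subgroup.mem_normalizer_iff''.1 htnX x).1 hx
  obtain ⟨k, hk, hkg, -⟩ := (isIso_of_mapsTo hg hgX).exists_symm
  -- the commutator of `c_t` and `g`
  set γ : Ω → Ω := fun x => t * g (t⁻¹ * k x * t) * t⁻¹ with hγ
  have hγm : IsMap F (P ⊔ R) γ := by
    have h2 : ∀ x ∈ P ⊔ R, conjMap t⁻¹ x ∈ P ⊔ R := fun x hx => by
      simpa [conjMap_apply] using htX' x hx
    refine (((hk.isMap.comp (isMap_conj F hXS (S.inv_mem htS)) fun x hx => hk.mem hx).comp hg
      fun x hx => h2 _ (hk.mem hx)).comp (isMap_conj F hXS htS)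
      fun x hx => hgX _ (h2 _ (hk.mem hx))).congr fun x _ => ?_
    simp [hγ, conjMap_apply, Function.comp_apply]
  have hγR : ∀ r ∈ R, γ r = r := fun r hr => by
    have hk' : k r = r := by
      conv_lhs => rw [← hgR r hr]
      exact hkg r (Subgroup.mem_sup_right hr)
    simp only [hγ]
    rw [hk', hgR _ (htR' r hr)]
    group
  have hkP : ∀ x ∈ P, k x ∈ P ∧ g (k x) = x := fun x hx => by
    have hy : autMap α⁻¹ x ∈ P := autMap_mem _ hx
    have he : g (autMap α⁻¹ x) = x := by rw [hge _ hy, autMap_inv_apply α hx]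
    have hk' : k x = autMap α⁻¹ x := by
      conv_lhs => rw [← he]
      exact hkg _ (Subgroup.mem_sup_left hy)
    exact ⟨hk'.symm ▸ hy, hk'.symm ▸ he⟩
  have hγP : ∀ x ∈ P, γ x ∈ P := fun x hx =>
    htP _ ((hge _ (htP' _ (hkP x hx).1)).symm ▸ autMap_mem α (htP' _ (hkP x hx).1))
  have hγD : IsMap (centSys F hR.1) P γ :=
    (isMap_centSys_iff hR.1).2 ⟨hPC, fun x hx => hPC (hγP x hx), γ, hγm, fun _ _ => rfl, hγR⟩
  obtain ⟨δ, hδ, hδe⟩ := (isIso_of_mapsTo hγD hγP).exists_aut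
  have hfixR : ∀ θ ∈ (centSys F hR.1).autGroup P, ∀ x ∈ P, x ∈ R → autMap θ x = x := by
    intro θ hθ x hx hxR
    obtain ⟨-, -, g', -, hge', hgR'⟩ := (isMap_centSys_iff hR.1).1 ((mem_autGroup_iff hPC).1 hθ)
    rw [← hge' x hx, hgR' x hxR]
  obtain ⟨w, hw⟩ := mem_inn_of_stab hCp hPC hPr
    (fun θ hθ x hx hxR => (hfixR θ hθ x hx hxR).symm ▸ hxR) hδ (hfixR δ hδ) fun x hx => by
      obtain ⟨hk1, hk2⟩ := hkP x hx
      have ht1 := htP' _ hk1
      rw [hδe x hx]
      have h1 : (k x)⁻¹ * (t⁻¹ * k x * t) ∈ R := by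
        have h := hfR _ (C.inv_mem (hPC ht1))
        rwa [show f (t⁻¹ * k x * t)⁻¹ = (k x)⁻¹ * (t⁻¹ * k x * t) by simp only [hf]; group] at h
      have h2 : g (t⁻¹ * k x * t) = x * ((k x)⁻¹ * (t⁻¹ * k x * t)) := by
        conv_lhs => rw [← mul_inv_cancel_left (k x) (t⁻¹ * k x * t)]
        rw [hg.map_mul (Subgroup.mem_sup_left hk1) (Subgroup.mem_sup_right h1), hk2, hgR _ h1]
      simp only [hγ]
      rw [h2, show x⁻¹ * (t * (x * ((k x)⁻¹ * (t⁻¹ * k x * t))) * t⁻¹) =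
        x⁻¹ * (t * x * t⁻¹ * x⁻¹) * x * (t * ((k x)⁻¹ * (t⁻¹ * k x * t)) * t⁻¹) by group]
      refine R.mul_mem ?_ (htR _ h1)
      show x⁻¹ * f x * x ∈ R
      rw [mul_assoc, hcomm x (hPC hx) x (hPC hx), inv_mul_cancel_left]
      exact hfR x (hPC hx)
  have hwX : ∀ x ∈ P ⊔ R, γ x = conjMap (w : Ω) x := fun x hx =>
    hγm.eqOn_sup (isMap_conj F hXS (centralizerIn_le (hPC w.2)))
      (fun y hy => by
        rw [← hδe y hy, ← hw, autMap_apply _ hy]
        rfl)
      (fun r hr => by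
        rw [hγR r hr, conjMap_apply, ← (FusionSys.mem_centralizerIn.1 (hPC w.2)).2 r hr,
          mul_inv_cancel_right]) hx
  have hXc : F.IsCentric (P ⊔ R) := by
    refine ⟨hXS, fun Q hQ c hc => ?_⟩
    obtain ⟨h, hh⟩ := isConj_iff.1 hQ
    have hhR := (hh.isMap.mono le_sup_right).isIso
    obtain ⟨v, hvi, hvh, -⟩ := hhR.exists_symm
    obtain ⟨u, hu, hue⟩ := receptive_extend (receptive_of_isFullyCentralized hS hF hR)
      hvi (N := centralizerIn S (imgSub h R)) fun c hc => hvi.isMap.inExt_of_centralizes hc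
    obtain ⟨hcS, hcc⟩ := FusionSys.mem_centralizerIn.1 hc
    have hcR : c ∈ centralizerIn S (imgSub h R) := FusionSys.mem_centralizerIn.2 ⟨hcS, fun y hy => by
      obtain ⟨r, hr, rfl⟩ := hhR.exists_preimage hy
      exact hcc _ (hh.mem (Subgroup.mem_sup_right hr))⟩
    have hP1 : ∀ y ∈ P, h y ∈ centralizerIn S (imgSub h R) := fun y hy =>
      hhR.mem_centralizerIn_of_extends hh.isMap le_sup_right (fun _ _ => rfl)
        (Subgroup.mem_sup_left hy) (hPC hy)
    have hQle : Q ≤ centralizerIn S (imgSub h R) ⊔ imgSub h R := fun z hz => by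
      obtain ⟨x, hx, rfl⟩ := hh.exists_preimage hz
      exact hh.isMap.mapsTo_sup (fun y hy => Subgroup.mem_sup_left (hP1 y hy))
        (fun r hr => Subgroup.mem_sup_right (hhR.mem hr)) hx
    have huR : ∀ r ∈ R, u (h r) = r := fun r hr => by
      rw [hue _ (hhR.mem hr), hvh r hr]
    have huC : ∀ z ∈ centralizerIn S (imgSub h R), u z ∈ C := fun z hz =>
      hvi.mem_centralizerIn_of_extends hu le_sup_right hue (Subgroup.mem_sup_left hz) hz
    have hcomp : IsMap F (P ⊔ R) (u ∘ h) :=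
      hh.isMap.comp hu fun x hx => hQle (hh.mem hx)
    have huD : IsMap (centSys F hR.1) P (u ∘ h) := (isMap_centSys_iff hR.1).2
      ⟨hPC, fun y hy => huC _ (hP1 y hy), _, hcomp, fun _ _ => rfl, huR⟩
    obtain ⟨y, hy, hye⟩ := huD.isIso.exists_preimage
      (hPc.2 _ huD.isIso.isConj (FusionSys.mem_centralizerIn.2 ⟨huC c hcR, fun y hy => by
        obtain ⟨x, hx, rfl⟩ := huD.mem_imgSub.1 hy
        rw [Function.comp_apply, ← hu.map_mul (Subgroup.mem_sup_left (hP1 x hx))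
            (Subgroup.mem_sup_left hcR), ← hu.map_mul (Subgroup.mem_sup_left hcR)
            (Subgroup.mem_sup_left (hP1 x hx)), hcc _ (hh.mem (Subgroup.mem_sup_left hx))]⟩))
    have := hu.injOn (Subgroup.mem_sup_left (hP1 y hy)) (Subgroup.mem_sup_left hcR) hye
    exact this ▸ hh.mem (Subgroup.mem_sup_left hy)
  obtain ⟨G, hG, hGe⟩ := receptive_extend
    (receptive_of_isFullyCentralized hS hF (isFullyCentralized_of_centric_le (E := F) (le_refl' F) hXc))
    (isIso_of_mapsTo hg hgX) (N := Subgroup.zpowers t) fun u hu => by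
      have hall : ∀ n : ℤ, InExt S (P ⊔ R) g (t ^ n) := by
        intro n
        let K : Subgroup Ω :=
          { carrier := {u | InExt S (P ⊔ R) g u}
            one_mem' := ⟨S.one_mem, Subgroup.one_mem _, 1, S.one_mem, fun y _ => by simp⟩
            mul_mem' := by
              rintro u v ⟨hu1, hu2, hu', hu3, hu4⟩ ⟨hv1, hv2, hv', hv3, hv4⟩
              refine ⟨S.mul_mem hu1 hv1, mul_mem hu2 hv2, hu' * hv', S.mul_mem hu3 hv3, fun y hy => ?_⟩
              rw [show u * v * y * (u * v)⁻¹ = u * (v * y * v⁻¹) * u⁻¹ by group,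
                hu4 _ ((Subgroup.mem_normalizer_iff.1 hv2 y).1 hy), hv4 y hy]
              group
            inv_mem' := by
              rintro u ⟨hu1, hu2, hu', hu3, hu4⟩
              refine ⟨S.inv_mem hu1, Subgroup.inv_mem _ hu2, hu'⁻¹, S.inv_mem hu3, fun y hy => ?_⟩
              have hy' := (Subgroup.mem_normalizer_iff.1 (Subgroup.inv_mem _ hu2) y).1 hy
              have h4 := hu4 _ hy'
              rw [show u * (u⁻¹ * y * u⁻¹⁻¹) * u⁻¹ = y by group] at h4
              rw [h4]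
              group }
        refine K.zpow_mem ⟨htS, htnX, (w : Ω)⁻¹ * t,
          S.mul_mem (S.inv_mem (centralizerIn_le (hPC w.2))) htS, fun y hy => ?_⟩ n
        have h := hwX _ (hgX _ (htX y hy))
        simp only [hγ, conjMap_apply] at h
        rw [hkg _ (htX y hy), show t⁻¹ * (t * y * t⁻¹) * t = y by group] at h
        calc g (t * y * t⁻¹) = (w : Ω)⁻¹ * ((w : Ω) * g (t * y * t⁻¹) * (w : Ω)⁻¹) * w := by group
          _ = _ := by rw [← h]; group
      obtain ⟨n, rfl⟩ := hu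
      exact hall n
  have htD : t ∈ Subgroup.zpowers t ⊔ (P ⊔ R) := Subgroup.mem_sup_left (Subgroup.mem_zpowers t)
  have hGT : G t ∈ T := (stronglyClosed_iff.1 hT).2 (Subgroup.zpowers t) G
    (Subgroup.zpowers_le.2 ht.1) (hG.mono le_sup_left) t (Subgroup.mem_zpowers t)
  have hr : t⁻¹ * G t ∈ R := by
    refine hCR (FusionSys.mem_centralizerIn.2 ⟨T.mul_mem (T.inv_mem ht.1) hGT, fun r hr => ?_⟩)
    have h1 := hG.map_conj htD (Subgroup.mem_sup_right (Subgroup.mem_sup_right hr))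
    rw [hGe _ (Subgroup.mem_sup_right (htR r hr)), hgR _ (htR r hr),
      hGe _ (Subgroup.mem_sup_right hr), hgR r hr] at h1
    calc r * (t⁻¹ * G t) = t⁻¹ * (t * r * t⁻¹) * G t := by group
      _ = t⁻¹ * G t * r := by rw [h1]; group
  refine mem_autGroup_of_isMap ?_
  obtain ⟨φ, hφ, hφe⟩ := (mem_autGroup_iff hPC).1 hα
  refine ⟨φ, ⟨hφ, fun y hy => ?_⟩, hφe⟩
  rw [homFun_mem φ hy, hφe ⟨y, hy⟩]
  show f (autMap α y) = f y
  have hyX : y ∈ Subgroup.zpowers t ⊔ (P ⊔ R) := Subgroup.mem_sup_right (Subgroup.mem_sup_left hy)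
  have hay := autMap_mem α hy
  have hGy : G y = autMap α y := (hGe _ (Subgroup.mem_sup_left hy)).trans (hge y hy)
  have h1 : G (f y) = f y :=
    (hGe _ (Subgroup.mem_sup_right (hfR y (hPC hy)))).trans (hgR _ (hfR y (hPC hy)))
  have h2 : G (f y) = G t * autMap α y * (G t)⁻¹ * (autMap α y)⁻¹ := by
    show G (t * y * t⁻¹ * y⁻¹) = _
    rw [hG.map_mul (mul_mem (mul_mem htD hyX) (inv_mem htD)) (inv_mem hyX),
      hG.map_conj htD hyX, hG.map_inv hyX, hGy]
  have hc := (FusionSys.mem_centralizerIn.1 (hPC hay)).2 _ hr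
  rw [← h1, h2]
  calc f (autMap α y) = t * (autMap α y * (t⁻¹ * G t)) * (G t)⁻¹ * (autMap α y)⁻¹ := by
        simp only [hf]; group
    _ = _ := by rw [← hc]; group

end Cfsg.Agent.H91.CentSE
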